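import Groth.Agent.L13.Nagata.AmpleFamily
import Groth.Agent.L13.Nagata.Piece
import Groth.Agent.L18.AmpleLocal
import Groth.Agent.L18.AmpleFamilyComp
import Groth.Agent.L21.Extend.Split
import Groth.Agent.L28.VTop.Proper
import Groth.Agent.L19.Approx.Factor
import Groth.Agent.L22.FibreDim
import Mathlib.AlgebraicGeometry.Noetherian

/-!
# Completely decomposed proper covers with an ample family
-/

set_option autoImplicit false
set_option linter.style.haveILetI false
set_option backward.isDefEq.respectTransparency false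
set_option backward.isDefEq.respectTransparency.types false

universe u

open CategoryTheory CategoryTheory.Limits AlgebraicGeometry TopologicalSpace Opposite
open Groth.L21.Extend

noncomputable section

namespace Groth.L13.CdAmple

variable {X : Scheme.{u}}

/-- An invertible module on a clopen extends. -/
theorem exists_extension_clopen (U V : X.Opens) (h : IsCompl U V) (L : (U : Scheme.{u}).Modules)
    (hL : PicF.IsInvertible L) : ∃ L' : X.Modules, PicF.IsInvertible L' ∧ Nonempty (L'.restrict U.ι ≅ L) := by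
  let A := (Scheme.Modules.pushforward U.ι).obj L
  let B := (Scheme.Modules.pushforward V.ι).obj (Coh.structureModule (↑V : Scheme.{u}))
  have hdisj : ∀ y : X, y ∈ U → y ∉ V := fun y hy hyV => h.disjoint.le_bot ⟨hy, hyV⟩
  have hA0 : ∀ W ≤ V, Subsingleton Γ(A, W) := fun W hW => subsingleton_bot (X := (U : Scheme.{u})) L
    fun z hz => hdisj (U.ι z) z.2 (hW hz)
  have hB0 : ∀ W ≤ U, Subsingleton Γ(B, W) := fun W hW => subsingleton_bot (X := (V : Scheme.{u})) _
    fun z hz => hdisj (V.ι z) (hW hz) z.2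
  refine ⟨A ⊞ B, fun y => ?_, ?_⟩
  · rcases (h.sup_eq_top.ge (Opens.mem_top y) : y ∈ U ⊔ V) with hy | hy
    · obtain ⟨O, hyO, hOU, g, hg⟩ := genOn_pushforward L hL y hy
      exact ⟨O, hyO, exists_iso_of_isGen _ (isGen_biprod_left A B hg fun W hW => hB0 W (hW.trans hOU))⟩
    · obtain ⟨O, hyO, hOV, g, hg⟩ := genOn_pushforward _ (isInvertible_structureModule (↑V : Scheme.{u})) y hy
      exact ⟨O, hyO, exists_iso_of_isGen _ (isGen_biprod_right A B hg fun W hW => hA0 W (hW.trans hOV))⟩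
  · haveI : IsIso ((Scheme.Modules.restrictFunctor U.ι).map (biprod.fst : A ⊞ B ⟶ A)) := by
      rw [Scheme.Modules.Hom.isIso_iff_isIso_app]
      intro W
      rw [ConcreteCategory.isIso_iff_bijective]
      haveI := hB0 (U.ι ''ᵁ W) (U.ι_image_le W)
      refine ⟨fun s t h => biprod_ext A B (V := U.ι ''ᵁ W) h (Subsingleton.elim _ _), fun a => ?_⟩
      obtain ⟨s, hs1, -⟩ := biprod_exists A B (V := U.ι ''ᵁ W) a 0
      exact ⟨s, hs1⟩
    exact ⟨asIso ((Scheme.Modules.restrictFunctor U.ι).map (biprod.fst : A ⊞ B ⟶ A)) ≪≫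
      (Scheme.Modules.restrictFunctorAdjCounitIso U.ι).app L⟩

/-- A clopen is a basic open. -/
theorem exists_basicOpen_clopen (U V : X.Opens) (h : IsCompl U V) : ∃ f : Γ(X, ⊤), X.basicOpen f = U := by
  let O : Bool → X.Opens := fun b => bif b then U else V
  let s : ∀ b, Γ(X, O b) := fun b => bif b then 1 else 0
  obtain ⟨f, hf, -⟩ := X.sheaf.existsUnique_gluing' O ⊤ (fun _ => homOfLE le_top)
    (fun x _ => by
      rcases (h.sup_eq_top.ge (Opens.mem_top x) : x ∈ U ⊔ V) with hx | hx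
      · exact Opens.mem_iSup.2 ⟨true, hx⟩
      · exact Opens.mem_iSup.2 ⟨false, hx⟩) s fun i j => by
    have e1 : ∀ i j, i ≠ j → O i ⊓ O j = ⊥ := by
      rintro (_ | _) (_ | _) hij
      · exact absurd rfl hij
      · exact (inf_comm _ _).trans h.inf_eq_bot
      · exact h.inf_eq_bot
      · exact absurd rfl hij
    by_cases hij : i = j
    · subst hij; rfl
    · haveI : Subsingleton Γ(X, O i ⊓ O j) := by
        rw [e1 i j hij]; exact CommRingCat.subsingleton_of_isTerminal X.sheaf.isTerminalOfEmpty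
      exact Subsingleton.elim (α := Γ(X, O i ⊓ O j)) _ _
  refine ⟨f, ?_⟩
  have hU : U ⊓ X.basicOpen f = U := by
    have := X.basicOpen_res f (homOfLE (le_top : U ≤ ⊤)).op
    rw [← this]
    refine X.basicOpen_of_isUnit ?_
    exact (hf true).symm ▸ isUnit_one
  have hV : V ⊓ X.basicOpen f = ⊥ := by
    have := X.basicOpen_res f (homOfLE (le_top : V ≤ ⊤)).op
    rw [← this]
    exact (congrArg X.basicOpen (hf false)).trans (X.basicOpen_zero _)
  refine le_antisymm ?_ (inf_eq_left.1 hU)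
  calc X.basicOpen f = (U ⊔ V) ⊓ X.basicOpen f := by rw [h.sup_eq_top, top_inf_eq]
    _ = U ⊓ X.basicOpen f ⊔ V ⊓ X.basicOpen f := inf_sup_right _ _ _
    _ ≤ U := by rw [hV]; exact sup_le inf_le_left bot_le

/-- Ample families glue along a clopen decomposition. -/
theorem hasAmpleFamily_clopen [CompactSpace X] [QuasiSeparatedSpace X] (U V : X.Opens) (h : IsCompl U V)
    (hU : MoreMor.HasAmpleFamily (U : Scheme.{u})) (hV : MoreMor.HasAmpleFamily (V : Scheme.{u})) :
    MoreMor.HasAmpleFamily X := by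
  refine ⟨inferInstance, fun x => ?_⟩
  have key : ∀ (U V : X.Opens), IsCompl U V → MoreMor.HasAmpleFamily (U : Scheme.{u}) → x ∈ U →
      ∃ (L : X.Modules) (n : ℕ) (s : Coh.structureModule X ⟶ CohB1.tensorPow L n),
        PicF.IsInvertible L ∧ 1 ≤ n ∧ x ∈ CohB1.genLocus (CohB1.tensorPow L n) s ∧
          IsAffineOpen (CohB1.genLocus (CohB1.tensorPow L n) s) := by
    intro U V h hU hx
    obtain ⟨L, n, s, hL, hn, hxs, hs⟩ := hU.2 ⟨x, hx⟩
    obtain ⟨L', hL', ⟨e⟩⟩ := exists_extension_clopen U V h L hL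
    obtain ⟨f, rfl⟩ := exists_basicOpen_clopen U V h
    obtain ⟨m, rfl⟩ : ∃ m, n = m + 1 := ⟨n - 1, by omega⟩
    obtain ⟨s', hs'⟩ := Groth.L18.Ample.exists_genLocus_eq_of_restrict hL' f
      (s ≫ (Groth.L00.Tensor.tensorPowIso e.symm (m + 1)).hom)
    rw [Groth.L16.genLocus_comp_iso] at hs'
    refine ⟨L', m + 1, s', hL', hn, ?_, ?_⟩
    · rw [hs']; exact ⟨⟨x, hx⟩, hxs, rfl⟩
    · rw [hs']; exact hs.image_of_isOpenImmersion _
  rcases (h.sup_eq_top.ge (Opens.mem_top x) : x ∈ U ⊔ V) with hx | hx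
  · exact key U V h hU hx
  · exact key V U h.symm hV hx

theorem hasAmpleFamily_coprod {Y Z : Scheme.{u}} [QuasiSeparatedSpace ↥(Y ⨿ Z)]
    (hY : MoreMor.HasAmpleFamily Y) (hZ : MoreMor.HasAmpleFamily Z) : MoreMor.HasAmpleFamily (Y ⨿ Z) := by
  haveI := hY.1
  haveI := hZ.1
  haveI : CompactSpace ↥(Y ⨿ Z) := (coprodMk Y Z).compactSpace
  refine hasAmpleFamily_clopen _ _ (isCompl_opensRange_inl_inr Y Z) ?_ ?_
  · exact Groth.L18.Ample.hasAmpleFamily_of_quasiAffine (coprod.inl : Y ⟶ Y ⨿ Z).isoOpensRange.inv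
      (Or.inl inferInstance) hY
  · exact Groth.L18.Ample.hasAmpleFamily_of_quasiAffine (coprod.inr : Z ⟶ Y ⨿ Z).isoOpensRange.inv
      (Or.inl inferInstance) hZ

/-- A morphism is completely decomposed over a set. -/
def CdOver {Y X : Scheme.{u}} (f : Y ⟶ X) (Z : Set X) : Prop :=
  ∀ x ∈ Z, ∃ y : Y, f y = x ∧ Function.Bijective (f.residueFieldMap y)

theorem bijective_of_surjective {Y X : Scheme.{u}} (f : Y ⟶ X) (y : Y)
    (h : Function.Surjective (f.residueFieldMap y)) : Function.Bijective (f.residueFieldMap y) :=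
  ⟨(f.residueFieldMap y).hom.injective, h⟩

theorem CdOver.comp_left {W Y X : Scheme.{u}} (u : W ⟶ Y) (f : Y ⟶ X) {Z : Set X}
    (h : CdOver (u ≫ f) Z) : CdOver f Z := fun x hx => by
  obtain ⟨w, hw, hb⟩ := h x hx
  refine ⟨u w, hw, bijective_of_surjective _ _ fun z => ?_⟩
  rw [Scheme.residueFieldMap_comp] at hb
  obtain ⟨a, ha⟩ := hb.2 (u.residueFieldMap w z)
  exact ⟨a, (u.residueFieldMap w).hom.injective ha⟩

theorem cdOver_map {W Y X : Scheme.{u}} (u : W ⟶ Y) (f : Y ⟶ X) {Z : Set X}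
    (hu : CdOver u (f ⁻¹' Z)) (hf : CdOver f Z) : CdOver (u ≫ f) Z := fun x hx => by
  obtain ⟨y, hy, hb⟩ := hf x hx
  obtain ⟨w, hw, hb'⟩ := hu y (show f y ∈ Z from hy.symm ▸ hx)
  subst hw
  refine ⟨w, hy, ?_⟩
  rw [Scheme.residueFieldMap_comp]
  exact hb'.comp hb

/-- On a Noetherian scheme every closed set is covered by a completely decomposed proper morphism
whose source has an ample family. -/
theorem exists_cover_closed [IsNoetherian X] (Z : Closeds X) :
    ∃ (Y : Scheme.{u}) (f : Y ⟶ X), IsProper f ∧ MoreMor.HasAmpleFamily Y ∧ CdOver f Z := by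
  induction Z using WellFoundedLT.induction with
  | _ Z ih =>
    by_cases hZ : Z = ⊥
    · refine ⟨∅, Scheme.emptyTo X, ?_, ⟨inferInstance, fun x => isEmptyElim x⟩, ?_⟩
      · haveI : IsFinite (Scheme.emptyTo X) := inferInstance
        infer_instance
      · intro x hx
        rw [hZ] at hx
        exact absurd hx (Set.notMem_empty x)
    let I := Scheme.IdealSheafData.vanishingIdeal Z
    let i := I.subschemeι
    have hi : Set.range i = Z := by
      rw [Scheme.IdealSheafData.range_subschemeι, Scheme.IdealSheafData.coe_support_vanishingIdeal]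
    haveI : IsLocallyNoetherian I.subscheme := LocallyOfFiniteType.isLocallyNoetherian i
    haveI : CompactSpace I.subscheme := QuasiCompact.compactSpace_of_compactSpace i
    haveI : IsNoetherian I.subscheme := {}
    obtain ⟨U, J, Y₁, b, -, hUd, hJ, hb, hY₁⟩ := Groth.L13.Nagata.exists_blowUp_ampleFamily
      (X := I.subscheme) NoetherianSpace.finite_irreducibleComponents
    haveI := Groth.L13.BU.isProper_blowUp hb hJ.1
    haveI := Groth.L13.Nagata.isIso_restrict_of_admissible hb hJ.2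
    let Z' : Closeds X := ⟨i '' (U : Set I.subscheme)ᶜ, i.isClosedEmbedding.isClosedMap _ U.2.isClosed_compl⟩
    have hlt : Z' < Z := by
      refine lt_of_le_of_ne (fun x hx => ?_) fun he => hZ ?_
      · obtain ⟨y, -, rfl⟩ := hx
        exact hi.le ⟨y, rfl⟩
      · by_contra hne
        obtain ⟨x, hx⟩ : (Z : Set X).Nonempty :=
          Set.nonempty_iff_ne_empty.2 fun h => hne (SetLike.coe_injective (h.trans Closeds.coe_bot.symm))
        obtain ⟨y, rfl⟩ := hi.ge hx
        obtain ⟨u, -, hu⟩ := hUd.inter_open_nonempty Set.univ isOpen_univ ⟨y, trivial⟩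
        have h1 : i u ∈ Z' := he ▸ hi.le ⟨u, rfl⟩
        obtain ⟨u', hu', huu⟩ := h1
        exact hu' (i.isClosedEmbedding.injective huu ▸ hu)
    obtain ⟨Y₂, f₂, hf₂, hY₂, hcd⟩ := ih Z' hlt
    haveI := hf₂
    haveI : IsProper (b ≫ i) := inferInstance
    haveI hp : IsProper (coprod.desc (b ≫ i) f₂) := Groth.L28.VTop.isProper_coprodDesc _ _
    haveI : QuasiSeparatedSpace ↥(Y₁ ⨿ Y₂) := quasiSeparatedSpace_of_quasiSeparated (coprod.desc (b ≫ i) f₂)
    refine ⟨Y₁ ⨿ Y₂, coprod.desc (b ≫ i) f₂, hp, hasAmpleFamily_coprod hY₁ hY₂, fun x hx => ?_⟩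
    by_cases hx' : x ∈ Z'
    · exact CdOver.comp_left coprod.inr (coprod.desc (b ≫ i) f₂) (by rw [coprod.inr_desc]; exact hcd) x hx'
    · refine CdOver.comp_left coprod.inl (coprod.desc (b ≫ i) f₂) (Z := {x}) ?_ x rfl
      rw [coprod.inl_desc]
      rintro z rfl
      obtain ⟨y, rfl⟩ := hi.ge hx
      have hyU : y ∈ U := by_contra fun h => hx' ⟨y, h, rfl⟩
      let y₁ : Y₁ := (b ⁻¹ᵁ U).ι (inv (b ∣_ U) ⟨y, hyU⟩)
      have e : inv (b ∣_ U) ≫ (b ⁻¹ᵁ U).ι ≫ b = U.ι := by rw [← morphismRestrict_ι, IsIso.inv_hom_id_assoc]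
      have hcd' : CdOver (U.ι ≫ i) {i y} := by
        rintro _ rfl
        refine ⟨⟨y, hyU⟩, rfl, ?_⟩
        rw [Scheme.residueFieldMap_comp]
        exact (ConcreteCategory.bijective_of_isIso (U.ι.residueFieldMap ⟨y, hyU⟩)).comp
          (Groth.L22.FibreDim.residueFieldMap_bijective i _)
      rw [← e, Category.assoc] at hcd'
      exact CdOver.comp_left (inv (b ∣_ U) ≫ (b ⁻¹ᵁ U).ι) (b ≫ i) (Z := {i y}) (by simpa only [Category.assoc] using hcd') _ rfl

/-- Completely decomposed covers pull back. -/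
theorem cdOver_pullback {W X₀ X : Scheme.{u}} (a : X ⟶ X₀) (f : W ⟶ X₀) (h : CdOver f Set.univ) :
    CdOver (pullback.fst a f) Set.univ := fun x _ => by
  obtain ⟨w, hw, hb⟩ := h (a x) trivial
  haveI : IsIso (f.residueFieldMap w) := (ConcreteCategory.isIso_iff_bijective _).2 hb
  let φ : Spec (X.residueField x) ⟶ W :=
    Spec.map (a.residueFieldMap x) ≫ Spec.map (X₀.residueFieldCongr hw).hom ≫
      Spec.map (inv (f.residueFieldMap w)) ≫ W.fromSpecResidueField w
  have hφ : φ ≫ f = X.fromSpecResidueField x ≫ a := by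
    simp only [φ, Category.assoc]
    rw [← Scheme.Hom.SpecMap_residueFieldMap_fromSpecResidueField, ← Spec.map_comp_assoc (f.residueFieldMap w),
      IsIso.hom_inv_id, Spec.map_id, Category.id_comp, Scheme.residueFieldCongr_fromSpecResidueField,
      Scheme.Hom.SpecMap_residueFieldMap_fromSpecResidueField]
  let l := pullback.lift (X.fromSpecResidueField x) φ hφ.symm
  refine CdOver.comp_left l (pullback.fst a f) (Z := {x}) ?_ x rfl
  rw [pullback.lift_fst]
  rintro _ rfl
  exact ⟨IsLocalRing.closedPoint _, Scheme.fromSpecResidueField_apply _ _,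
    bijective_of_surjective _ _ (Groth.L22.FibreDim.residueFieldMap_bijective _ _).2⟩

theorem exists_cover [CompactSpace X] [QuasiSeparatedSpace X] :
    ∃ (Y : Scheme.{u}) (f : Y ⟶ X), IsProper f ∧ LocallyOfFinitePresentation f ∧
      (∀ x : X, ∃ y : Y, f y = x ∧ Function.Bijective (f.residueFieldMap y)) ∧ MoreMor.HasAmpleFamily Y := by
  haveI : IsNoetherianRing (ULift.{u} ℤ) := isNoetherianRing_of_ringEquiv ℤ ULift.ringEquiv.symm
  obtain ⟨M, g, a, hg, hc, hq, ha, -⟩ :=
    Groth.L19.Approx.affFactors (S := Spec (CommRingCat.of (ULift.{u} ℤ))) (specULiftZIsTerminal.from X)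
  haveI : IsLocallyNoetherian M := LocallyOfFiniteType.isLocallyNoetherian g
  haveI : IsNoetherian M := {}
  obtain ⟨Y₀, f₀, hf₀, hY₀, hcd⟩ := exists_cover_closed (X := M) ⊤
  haveI : LocallyOfFinitePresentation f₀ := inferInstance
  refine ⟨pullback a f₀, pullback.fst a f₀, MorphismProperty.pullback_fst _ _ hf₀,
    MorphismProperty.pullback_fst _ _ inferInstance, fun x => cdOver_pullback a f₀ hcd x trivial, ?_⟩
  exact Groth.L18.Ample.hasAmpleFamily_of_quasiAffine (pullback.snd a f₀)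
    (Or.inl (MorphismProperty.pullback_snd _ _ ha)) hY₀

end Groth.L13.CdAmple
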